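/-
Certificate data of a coset enumeration.
-/
import Cfsg.Agent.Lib.CosetEnum.Basic

set_option autoImplicit false
set_option maxRecDepth 1000000

namespace CfsgLib.CosetEnum.ONMZ

open CfsgLib.CosetEnum

/-- The packed facts. -/
noncomputable def facts : Tree :=
  (.leaf (nat_lit 0x3000003000010000030000900003300008000033000050000330000200000300004000013000070000330000500009300009000042000040000630000a000023000050000710000b0000730000b0000510000300005000008000053000090000b00000b0000a20000a000040000090000310000800003000007000022000060000200000500001200004000011000030000020000200000100001000000))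

/-- The parents of the cosets. -/
noncomputable def par : Tree :=
  (.leaf (nat_lit 0xa2000040000031000030000022000020000012000011000002000001000000000000))

/-- The packed words. -/
noncomputable def words : Tree :=
  (.node (.node (.node (.node (.node (.node (.leaf (nat_lit 0x2)) (.leaf (nat_lit 0x210201007))) (.leaf (nat_lit 0x102020102020102020012))) (.node (.leaf (nat_lit 0x20102010201020102010014)) (.leaf (nat_lit 0x12102012102012102012)))) (.node (.node (.node (.leaf (nat_lit 0x212121212100a)) (.leaf (nat_lit 0x201021007))) (.leaf (nat_lit 0x20121020121020121012))) (.node (.leaf (nat_lit 0x1010101008)) (.leaf (nat_lit 0x202102021020210202102021019))))) (.node (.node (.node (.node (.leaf (nat_lit 0x20202020202000c)) (.leaf (nat_lit 0x102102007))) (.leaf (nat_lit 0x201020201020201020012))) (.node (.leaf (nat_lit 0x2102010007)) (.leaf (nat_lit 0x10201020102010201020014)))) (.node (.node (.leaf (nat_lit 0x202010202010202010012)) (.leaf (nat_lit 0x210201210201210201012))) (.node (.leaf (nat_lit 0x121212121200a)) (.leaf (nat_lit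 0x2102021020210202102021020019)))))) (.node (.node (.node (.node (.node (.leaf (nat_lit 0x10101010008)) (.leaf (nat_lit 0x1021020007))) (.leaf (nat_lit 0x10202010202010202012))) (.node (.leaf (nat_lit 0x2021020210202102021020210019)) (.leaf (nat_lit 0x2010201020102010201014)))) (.node (.node (.node (.leaf (nat_lit 0x22002)) (.leaf (nat_lit 0x1020102007))) (.leaf (nat_lit 0x102012102012102012012))) (.node (.leaf (nat_lit 0x2020202020200c)) (.leaf (nat_lit 0x1020210202102021020210202019))))) (.node (.node (.node (.node (.leaf (nat_lit 0x11002)) (.leaf (nat_lit 0x2010210007))) (.leaf (nat_lit 0x20102020102020102012))) (.node (.leaf (nat_lit 0x0)) (.leaf (nat_lit 0x1020102010201020102014)))) (.node (.node (.leaf (nat_lit 0x201210201210201210012)) (.leaf (nat_lit 0x121020121020121020012))) (.node (.leaf (nat_lit 0x20201020201020201012)) (.leaf (nat_lit 0x210202102021020210202102019)))))))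

/-- The certificate. -/
noncomputable def data : Data := ⟨3, facts, par, words, 0, 38⟩

/-- Representatives. -/
noncomputable def rep : Tree :=
  (.leaf (nat_lit 0x0))

/-- The rows of the table. -/
noncomputable def tab : Tree :=
  (.leaf (nat_lit 0x0))

/-- The table. -/
noncomputable def table : Table := ⟨1, rep, tab, .leaf 0⟩

/-- The relators. -/
noncomputable def rels : List (List ℕ) := [[0, 0], [0, 1, 0, 1, 0, 1, 0, 1], [0, 2, 0, 2, 0, 2, 0, 2, 0, 2, 0, 2], [1, 1], [1, 2, 1, 2, 1, 2, 1, 2, 1, 2], [2, 2], [0, 1, 0, 2, 0, 2, 0, 1, 0, 2, 0, 2, 0, 1, 0, 2, 0, 2], [0, 1, 2, 1, 0, 2, 0, 1, 2, 1, 0, 2, 0, 1, 2, 1, 0, 2], [0, 1, 0, 2, 0, 1, 0, 2, 0, 1, 0, 2, 0, 1, 0, 2, 0, 1, 0, 2], [0, 1, 2, 0, 2, 0, 1, 2, 0, 2, 0, 1, 2, 0, 2, 0, 1, 2, 0, 2, 0, 1, 2, 0, 2], [0, 1, 0, 2, 0, 1, 2]]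

/-- The words generating the subgroup. -/
noncomputable def hw : List (List ℕ) := []

/-- The origin of the words. -/
noncomputable def rots : List (ℕ × ℕ) := [(0, 0), (1, 0), (2, 0), (3, 0), (4, 0), (5, 0), (6, 0), (7, 0), (8, 0), (9, 0), (10, 0), (12, 0), (1, 1), (2, 1), (4, 1), (6, 1), (6, 2), (6, 3), (6, 4), (6, 5), (7, 1), (7, 2), (7, 3), (7, 4), (7, 5), (8, 1), (8, 2), (8, 3), (9, 1), (9, 2), (9, 3), (9, 4), (10, 1), (10, 2), (10, 3), (10, 4), (10, 5), (10, 6)]

/-- The generators. -/
noncomputable def sel : List ℕ := [0, 1, 2]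

end CfsgLib.CosetEnum.ONMZ
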