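/-
Certificate data of a coset enumeration.
-/
import Cfsg.Agent.Lib.CosetEnum.ONMZ.Data

set_option autoImplicit false
set_option maxRecDepth 1000000

namespace CfsgLib.CosetEnum.ONMZ

open CfsgLib.CosetEnum

/-- Justifications of the facts from 0. -/
noncomputable def just0 : List ℕ := [(nat_lit 0xfff), (nat_lit 0xfff), (nat_lit 0xfff), (nat_lit 0xfff), (nat_lit 0xfff), (nat_lit 0xfff), (nat_lit 0xfff), (nat_lit 0xfff), (nat_lit 0xfff), (nat_lit 0xfff), (nat_lit 0xfff), (nat_lit 0x9000030000000002000080000a0050010000a001022), (nat_lit 0xb00008000070000400003000090000a0030040000b004022), (nat_lit 0xc0000700200000005000000), (nat_lit 0xc00007000020000000003000090000a0000070000b006025), (nat_lit 0x60000100000000040000c00007000080000b0000080000b00700a), (nat_lit 0xf0000e00200000007000003), (nat_lit 0x60000f0000a00300000002000005), (nat_lit 0x5000110000900300000006000000), (nat_lit 0x300000000020000d000100000f0000b0000070000900600a), (nat_lit 0x130001200005000060000f0000b000080000d0000400000000020000d000100000f0000b000130001200005000060000f0000b000080000d00001700005012006), (nat_lit 0xd000140000b0000f00400000003000000), (nat_lit 0x4000140001300300000001000005), (nat_lit 0x2000150000600300000000000005),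 (nat_lit 0x200000000160000300000000020000d0000400000000170000100000000040000c000070000200000000160000300000000020000d00001600005012012), (nat_lit 0x180000c0020000000300000b), (nat_lit 0x18000140020000000300000b), (nat_lit 0x2000180000400300000000000005), (nat_lit 0x200019000070001a000080001900007000020001b0000000017000010001b000000000200019000070001a000080001900007000020001b0000000017000010001b000000000200019000070001a00008000190000700002300003014008)]

theorem just0_ok : data.okChunk 0 just0 = true := by decide +kernel

theorem just0_len : just0.length = 29 := by decide +kernel

end CfsgLib.CosetEnum.ONMZ
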